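import Mathlib
import Cfsg.Agent.Helper58.Marggraf
import Cfsg.Agent.Helper60.Marg.Defs

/-!
# S3620 (helper60 WANTED #8720): auxiliary facts on the translates of a block and on elements
supported in a Jordan set (used by the pieces Q4c, Q4d, Q5p)
-/

set_option autoImplicit false

namespace Cfsg.Agent.Helper55.Marg

open MulAction Cfsg.Agent.Helper58 Cfsg.Agent.Helper60.Marg
open scoped Pointwise

variable {G : Type*} [Group G] {Ω : Type*} [MulAction G Ω]

theorem orbit_cover [IsPretransitive G Ω] {B : Set Ω} (hBne : B.Nonempty) (x : Ω) :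
    ∃ C : orbit G B, x ∈ (C : Set Ω) := by
  obtain ⟨b, hb⟩ := hBne
  obtain ⟨g, hg⟩ := exists_smul_eq G b x
  refine ⟨⟨g • B, mem_orbit B g⟩, ?_⟩
  rw [← hg]
  exact Set.smul_mem_smul_set hb

theorem orbit_disj {B : Set Ω} (hB : IsBlock G B) (C D : orbit G B) (x : Ω)
    (hC : x ∈ (C : Set Ω)) (hD : x ∈ (D : Set Ω)) : C = D := by
  obtain ⟨g, hg⟩ := C.2
  obtain ⟨h, hh⟩ := D.2
  have hg' : g • B = (C : Set Ω) := hg
  have hh' : h • B = (D : Set Ω) := hh
  apply Subtype.ext
  by_contra hne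
  have hdis : Disjoint (g • B) (h • B) := hB (by rw [hg', hh']; exact hne)
  rw [hg', hh'] at hdis
  exact Set.disjoint_left.mp hdis hC hD

theorem orbit_ncard {B : Set Ω} (C : orbit G B) : (C : Set Ω).ncard = B.ncard := by
  obtain ⟨g, hg⟩ := C.2
  have hg' : g • B = (C : Set Ω) := hg
  rw [← hg', ← Set.image_smul]
  exact Set.ncard_image_of_injective B (MulAction.injective g)

theorem orbit_nontrivial {B : Set Ω} (hBnt : B.Nontrivial) (C : orbit G B) :
    (C : Set Ω).Nontrivial := by
  obtain ⟨g, hg⟩ := C.2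
  have hg' : g • B = (C : Set Ω) := hg
  rw [← hg', ← Set.image_smul]
  exact hBnt.image (MulAction.injective g)

/-- an element fixing the complement of `Γ` pointwise maps subsets of `Γ` into `Γ` -/
theorem smul_subset_of_fix {Γ : Set Ω} {h : G} (hfix : ∀ z ∉ Γ, h • z = z) {C : Set Ω}
    (hC : C ⊆ Γ) : h • C ⊆ Γ := by
  rintro _ ⟨c, hc, rfl⟩
  by_contra hn
  have h1 : h • (h • c) = h • c := hfix _ hn
  have h2 : h • c = c := MulAction.injective h h1
  have h3 : h • c ∈ Γ := by rw [h2]; exact hC hc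
  exact hn h3

/-- an element fixing the complement of `Γ` pointwise fixes every subset of the complement -/
theorem smul_eq_of_fix {Γ : Set Ω} {h : G} (hfix : ∀ z ∉ Γ, h • z = z) {C : Set Ω}
    (hC : C ⊆ Γᶜ) : h • C = C := by
  ext z
  constructor
  · rintro ⟨c, hc, rfl⟩
    have : h • c = c := hfix c (hC hc)
    show h • c ∈ C
    rw [this]
    exact hc
  · intro hz
    exact ⟨z, hz, hfix z (hC hz)⟩

end Cfsg.Agent.Helper55.Marg
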