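import Mathlib
import Cfsg.Agent.Helper58.Marggraf
import Cfsg.Agent.Helper60.Marg.Defs
import Cfsg.Agent.Helper55.Marg.QAux

/-!
# S3620 (helper60 WANTED #8720), piece (Q4c): `Γ` is the union of the blocks inside it
-/

set_option autoImplicit false
set_option linter.style.haveILetI false

namespace Cfsg.Agent.Helper55.Marg

open MulAction Cfsg.Agent.Helper58 Cfsg.Agent.Helper60.Marg
open scoped Pointwise

variable {G : Type*} [Group G] {Ω : Type*} [MulAction G Ω]

/-- (Q4c) `Γ` is the union of the blocks inside it -/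
theorem ncard_orbit_mul [Finite Ω] [IsPretransitive G Ω] {B : Set Ω} (hB : IsBlock G B)
    (hBne : B.Nonempty) {Γ : Set Ω}
    (hdich : ∀ C : orbit G B, (C : Set Ω) ⊆ Γ ∨ (C : Set Ω) ⊆ Γᶜ) :
    {C : orbit G B | (C : Set Ω) ⊆ Γ}.ncard * B.ncard = Γ.ncard := by
  classical
  set S : Set (orbit G B) := {C : orbit G B | (C : Set Ω) ⊆ Γ} with hS
  have : Finite (orbit G B) := inferInstance
  letI : Fintype S := Fintype.ofFinite S
  let e : (Σ C : S, (((C : orbit G B) : Set Ω) : Type _)) → Γ :=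
    fun q => ⟨q.2.1, q.1.2 q.2.2⟩
  have hinj : Function.Injective e := by
    rintro ⟨C, x⟩ ⟨D, y⟩ hxy
    have hxy' : (x : Ω) = (y : Ω) := congrArg Subtype.val hxy
    have hCD : (C : orbit G B) = (D : orbit G B) :=
      orbit_disj hB C D x x.2 (by rw [hxy']; exact y.2)
    have hCD' : C = D := Subtype.ext hCD
    subst hCD'
    have : x = y := Subtype.ext hxy'
    rw [this]
  have hsurj : Function.Surjective e := by
    rintro ⟨x, hx⟩
    obtain ⟨C, hC⟩ := orbit_cover (G := G) hBne x
    have hCS : C ∈ S := by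
      rcases hdich C with h | h
      · exact h
      · exact absurd hx (h hC)
    exact ⟨⟨⟨C, hCS⟩, ⟨x, hC⟩⟩, rfl⟩
  have hcard : Nat.card (Σ C : S, (((C : orbit G B) : Set Ω) : Type _)) = Nat.card Γ :=
    Nat.card_congr (Equiv.ofBijective e ⟨hinj, hsurj⟩)
  rw [Nat.card_sigma] at hcard
  have h1 : ∀ C : S, Nat.card (((C : orbit G B) : Set Ω) : Type _) = B.ncard := by
    intro C
    rw [Nat.card_coe_set_eq]
    exact orbit_ncard (C : orbit G B)
  rw [Finset.sum_congr rfl (fun C _ => h1 C), Finset.sum_const, Finset.card_univ, smul_eq_mul,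
    Nat.card_coe_set_eq, ← Nat.card_eq_fintype_card, Nat.card_coe_set_eq] at hcard
  exact hcard

end Cfsg.Agent.Helper55.Marg
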