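import Mathlib
import Cfsg.Agent.Helper58.Marggraf
import Cfsg.Agent.Helper60.Marg.Defs
import Cfsg.Agent.Helper55.Marg.QAux

/-!
# S3620 (helper60 WANTED #8720), piece (Q4d): at least two blocks lie inside `Γ`
-/

set_option autoImplicit false
set_option linter.unusedVariables false

namespace Cfsg.Agent.Helper55.Marg

open MulAction Cfsg.Agent.Helper58 Cfsg.Agent.Helper60.Marg
open scoped Pointwise

variable {G : Type*} [Group G] {Ω : Type*} [MulAction G Ω]

/-- (Q4d) at least two blocks lie inside `Γ` -/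
theorem one_lt_ncard_orbit [Finite Ω] [IsPretransitive G Ω] {B : Set Ω} (hB : IsBlock G B)
    (hBne : B.Nonempty)
    (hfaith : ∀ g : G, (∀ C : orbit G B, g • C = C) → g = 1)
    {Γ : Set Ω} (hJ : IsJ G Γ) (h1 : 1 < Γ.ncard)
    (hdich : ∀ C : orbit G B, (C : Set Ω) ⊆ Γ ∨ (C : Set Ω) ⊆ Γᶜ) :
    1 < {C : orbit G B | (C : Set Ω) ⊆ Γ}.ncard := by
  by_contra hle
  have hle' : {C : orbit G B | (C : Set Ω) ⊆ Γ}.ncard ≤ 1 := by omega
  have hfinS : ({C : orbit G B | (C : Set Ω) ⊆ Γ} : Set (orbit G B)).Finite := Set.toFinite _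
  have huniq := (Set.ncard_le_one hfinS).mp hle'
  obtain ⟨x, hx, y, hy, hxy⟩ := (Set.one_lt_ncard (Set.toFinite Γ)).mp h1
  obtain ⟨g, hgfix, hgxy⟩ := hJ x hx y hy
  have hg1 : g = 1 := by
    apply hfaith
    intro C
    apply Subtype.ext
    rw [orbit.coe_smul]
    rcases hdich C with hC | hC
    · have h2 : ((g • C : orbit G B) : Set Ω) ⊆ Γ := by
        rw [orbit.coe_smul]
        exact smul_subset_of_fix hgfix hC
      have := huniq (g • C) h2 C hC
      rw [← orbit.coe_smul, this]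
    · exact smul_eq_of_fix hgfix hC
  rw [hg1, one_smul] at hgxy
  exact hxy hgxy

end Cfsg.Agent.Helper55.Marg
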