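import Mathlib
import Cfsg.Agent.Helper58.Marggraf
import Cfsg.Agent.Helper60.Marg.Defs
import Cfsg.Agent.Helper55.Marg.QAux

/-!
# S3620 (helper60 WANTED #8720), piece (Q5'): exactly two blocks inside `Γ` is impossible
-/

set_option autoImplicit false
set_option linter.unusedVariables false

namespace Cfsg.Agent.Helper55.Marg

open MulAction Cfsg.Agent.Helper58 Cfsg.Agent.Helper60.Marg
open scoped Pointwise

variable {G : Type*} [Group G] {Ω : Type*} [MulAction G Ω]

/-- (Q5') exactly two blocks inside `Γ` is impossible for a nontrivial block -/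
theorem ncard_orbit_ne_two [Finite Ω] [IsPretransitive G Ω] {B : Set Ω} (hB : IsBlock G B)
    (hBnt : B.Nontrivial)
    (hfaith : ∀ g : G, (∀ C : orbit G B, g • C = C) → g = 1)
    {Γ : Set Ω} (hJ : IsJ G Γ)
    (hdich : ∀ C : orbit G B, (C : Set Ω) ⊆ Γ ∨ (C : Set Ω) ⊆ Γᶜ) :
    {C : orbit G B | (C : Set Ω) ⊆ Γ}.ncard ≠ 2 := by
  intro h2
  obtain ⟨C1, C2, hne, hS⟩ := Set.ncard_eq_two.mp h2
  have hC1 : (C1 : Set Ω) ⊆ Γ := by
    have : C1 ∈ {C : orbit G B | (C : Set Ω) ⊆ Γ} := by rw [hS]; exact Set.mem_insert _ _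
    exact this
  have hC2 : (C2 : Set Ω) ⊆ Γ := by
    have : C2 ∈ {C : orbit G B | (C : Set Ω) ⊆ Γ} := by
      rw [hS]; exact Set.mem_insert_of_mem _ (Set.mem_singleton _)
    exact this
  have hmemS : ∀ C : orbit G B, (C : Set Ω) ⊆ Γ → C = C1 ∨ C = C2 := by
    intro C hC
    have : C ∈ {C : orbit G B | (C : Set Ω) ⊆ Γ} := hC
    rw [hS] at this
    rcases this with h | h
    · exact Or.inl h
    · exact Or.inr h
  obtain ⟨x, hx, y, hy, hxy⟩ := orbit_nontrivial hBnt C1
  obtain ⟨g, hgfix, hgxy⟩ := hJ x (hC1 hx) y (hC1 hy)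
  -- `g` fixes `C1`
  have hgC1 : g • C1 = C1 := by
    apply orbit_disj hB (g • C1) C1 y
    · rw [orbit.coe_smul, ← hgxy]
      exact Set.smul_mem_smul_set hx
    · exact hy
  -- `g` fixes `C2`
  have hgC2 : g • C2 = C2 := by
    have hsub : ((g • C2 : orbit G B) : Set Ω) ⊆ Γ := by
      rw [orbit.coe_smul]
      exact smul_subset_of_fix hgfix hC2
    rcases hmemS (g • C2) hsub with h | h
    · exfalso
      apply hne
      have : g • C2 = g • C1 := by rw [h, hgC1]
      exact (MulAction.injective g this).symm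
    · exact h
  have hg1 : g = 1 := by
    apply hfaith
    intro C
    rcases hdich C with hC | hC
    · rcases hmemS C hC with h | h
      · rw [h]; exact hgC1
      · rw [h]; exact hgC2
    · apply Subtype.ext
      rw [orbit.coe_smul]
      exact smul_eq_of_fix hgfix hC
  rw [hg1, one_smul] at hgxy
  exact hxy hgxy

end Cfsg.Agent.Helper55.Marg
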